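import Mathlib
import Groth.Agent.RegPow.Basic

/-!
Ideals generated by weakly regular sequences are of linear type.
-/

open MvPolynomial

namespace Groth.Agent.LinType

variable {A : Type*} [CommRing A] {n : ℕ} (a : Fin n → A)

/-- The ideal of Koszul relations. -/
noncomputable def rel : Ideal (MvPolynomial (Fin n) A) :=
  Ideal.span {q : MvPolynomial (Fin n) A | ∃ i j : Fin n, q = C (a i) * X j - C (a j) * X i}

/-- Linear forms in the first `k` variables. -/
noncomputable def lin (k : ℕ) : Submodule A (MvPolynomial (Fin n) A) :=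
  Submodule.span A (X '' {i : Fin n | (i : ℕ) < k})

/-- The ideal generated by the first `k` members. -/
def pre (k : ℕ) : Ideal A := Ideal.span (a '' {i : Fin n | (i : ℕ) < k})

lemma map_lin (k : ℕ) : Submodule.map (aeval a : MvPolynomial (Fin n) A →ₐ[A] A).toLinearMap (lin k) = pre a k := by
  rw [lin, Submodule.map_span, ← Set.image_comp, pre, Ideal.span]
  congr 2
  funext i
  simp

lemma map_lin_pow (k d : ℕ) :
    Submodule.map (aeval a : MvPolynomial (Fin n) A →ₐ[A] A).toLinearMap (lin k ^ d) = pre a k ^ d := by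
  rw [Submodule.map_pow, map_lin]

lemma lin_succ {k : ℕ} (hk : k < n) :
    lin (A := A) (n := n) (k + 1) = lin k ⊔ Submodule.span A {(X ⟨k, hk⟩ : MvPolynomial (Fin n) A)} := by
  rw [lin, lin, ← Submodule.span_union]
  congr 1
  ext f
  simp only [Set.mem_image, Set.mem_setOf_eq, Set.mem_union, Set.mem_singleton_iff]
  constructor
  · rintro ⟨i, hi, rfl⟩
    rcases Nat.lt_succ_iff_lt_or_eq.mp hi with h | h
    · exact Or.inl ⟨i, h, rfl⟩
    · exact Or.inr (by congr 1; exact Fin.ext h)
  · rintro (⟨i, hi, rfl⟩ | rfl)
    · exact ⟨i, by omega, rfl⟩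
    · exact ⟨_, by simp, rfl⟩

lemma pow_sup_succ {S : Type*} [CommSemiring S] [Algebra A S] (P Q : Submodule A S) (d : ℕ) :
    (P ⊔ Q) ^ (d + 1) ≤ P ^ (d + 1) ⊔ (P ⊔ Q) ^ d * Q := by
  induction d with
  | zero => simp
  | succ d ih =>
    rw [pow_succ (P ⊔ Q) (d + 1), Submodule.mul_sup]
    refine sup_le ?_ le_sup_right
    refine (mul_le_mul_left ih P).trans ?_
    rw [Submodule.sup_mul, ← pow_succ, mul_assoc, mul_comm Q P, ← mul_assoc]
    refine sup_le_sup le_rfl (mul_le_mul_left ?_ Q)
    rw [pow_succ]
    exact mul_le_mul_right le_sup_left _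

/-- A homogeneous form in the first variables vanishing at `a` is a Koszul relation. -/
theorem mem_rel_of_lin_pow (hreg : ∀ (k : ℕ) (hk : k < n) (x : A), a ⟨k, hk⟩ * x ∈ pre a k → x ∈ pre a k) :
    ∀ (k : ℕ), k ≤ n → ∀ (d : ℕ), ∀ f ∈ lin (A := A) (n := n) k ^ d, aeval a f = 0 → f ∈ rel a := by
  intro k
  induction k with
  | zero =>
    intro _ d f hf h0
    cases d with
    | zero =>
      rw [pow_zero, Submodule.mem_one] at hf
      obtain ⟨r, rfl⟩ := hf
      rw [AlgHom.commutes] at h0
      rw [show r = 0 from h0, map_zero]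
      exact zero_mem _
    | succ d =>
      have : lin (A := A) (n := n) 0 = ⊥ := by simp [lin]
      rw [this, pow_succ, Submodule.mul_bot] at hf
      rw [(Submodule.mem_bot _).mp hf]
      exact zero_mem _
  | succ k ih =>
    intro hk d
    induction d with
    | zero =>
      intro f hf h0
      rw [pow_zero, Submodule.mem_one] at hf
      obtain ⟨r, rfl⟩ := hf
      rw [AlgHom.commutes] at h0
      rw [show r = 0 from h0, map_zero]
      exact zero_mem _
    | succ d ihd =>
      intro f hf h0
      have hk' : k < n := by omega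
      rw [lin_succ hk'] at hf
      obtain ⟨f', hf', w, hw, rfl⟩ := Submodule.mem_sup.mp (pow_sup_succ _ _ d hf)
      rw [← lin_succ hk'] at hw
      obtain ⟨g, hg, rfl⟩ := Submodule.mem_mul_span_singleton.mp hw
      have hgood : RegPow.Good (A := A) ⊥ (pre a k) := by
        have := RegPow.good_span (J := (⊥ : Ideal A)) (fun i : Fin k => a ⟨i, by omega⟩) (fun i x hx => ?_)
        · convert this using 1
          rw [pre]
          congr 1
          ext y
          simp only [Set.mem_image, Set.mem_setOf_eq, Set.mem_range]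
          exact ⟨fun ⟨i, hi, e⟩ => ⟨⟨i, hi⟩, e⟩, fun ⟨i, e⟩ => ⟨⟨i, by omega⟩, i.2, e⟩⟩
        · have he : (fun i : Fin k => a ⟨i, by omega⟩) '' {j | j < i} = a '' {j : Fin n | (j : ℕ) < i} := by
            ext y
            simp only [Set.mem_image, Set.mem_setOf_eq]
            exact ⟨fun ⟨j, hj, e⟩ => ⟨⟨j, by omega⟩, hj, e⟩,
              fun ⟨j, hj, e⟩ => ⟨⟨j, by omega⟩, hj, e⟩⟩
          rw [he, bot_sup_eq] at hx ⊢
          exact hreg i (by omega) x hx
      have hf'v : aeval a f' ∈ pre a k ^ (d + 1) := by
        rw [← map_lin_pow]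
        exact ⟨f', hf', rfl⟩
      have hgv : aeval a g ∈ pre a k ^ (d + 1) := by
        have hgnzd := hgood.nzd_pow (g := a ⟨k, hk'⟩) (fun x hx => by
          rw [bot_sup_eq] at hx ⊢
          exact hreg k hk' x hx) (d + 1) (aeval a g) (by
          rw [bot_sup_eq]
          rw [map_add, map_mul, aeval_X] at h0
          have e : a ⟨k, hk'⟩ * aeval a g = -aeval a f' := by linear_combination h0
          rw [e]
          exact neg_mem hf'v)
        rwa [bot_sup_eq] at hgnzd
      obtain ⟨h', hh', H, hH, hv, hrel⟩ : ∃ h' ∈ lin (A := A) (n := n) k ^ d, ∃ H ∈ lin (A := A) (n := n) k ^ (d + 1),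
          aeval a h' = aeval a g ∧ X ⟨k, hk'⟩ * h' - C (a ⟨k, hk'⟩) * H ∈ rel a := by
        rw [pow_succ] at hgv
        refine Submodule.mul_induction_on hgv ?_ ?_
        · intro u hu v hv
          rw [← map_lin_pow] at hu
          obtain ⟨h0', hh0', rfl⟩ := hu
          rw [← map_lin] at hv
          obtain ⟨L, hL, rfl⟩ := hv
          have hLrel : X ⟨k, hk'⟩ * C (aeval a L) - C (a ⟨k, hk'⟩) * L ∈ rel a := by
            induction hL using Submodule.span_induction with
            | mem x hx =>
              obtain ⟨i, -, rfl⟩ := hx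
              rw [aeval_X, mul_comm (X _) (C _)]
              exact Ideal.subset_span ⟨i, ⟨k, hk'⟩, rfl⟩
            | zero => simp
            | add x y _ _ hx hy =>
              rw [map_add, map_add]
              convert (rel a).add_mem hx hy using 1
              ring
            | smul c x _ hx =>
              rw [smul_eq_C_mul, map_mul, aeval_C, map_mul]
              convert (rel a).mul_mem_left (C c) hx using 1
              simp only [Algebra.algebraMap_self, RingHom.id_apply]
              ring
          refine ⟨C (aeval a L) * h0', ?_, h0' * L, ?_, ?_, ?_⟩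
          · rw [← smul_eq_C_mul]
            exact Submodule.smul_mem _ _ hh0'
          · rw [pow_succ]
            exact Submodule.mul_mem_mul hh0' hL
          · simp [mul_comm]
          · convert (rel a).mul_mem_left h0' hLrel using 1
            ring
        · rintro x y ⟨h1, hh1, H1, hH1, hv1, hr1⟩ ⟨h2, hh2, H2, hH2, hv2, hr2⟩
          refine ⟨h1 + h2, add_mem hh1 hh2, H1 + H2, add_mem hH1 hH2, by rw [map_add, hv1, hv2], ?_⟩
          convert (rel a).add_mem hr1 hr2 using 1
          ring
      have hle : lin (A := A) (n := n) k ^ d ≤ lin (A := A) (n := n) (k + 1) ^ d :=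
        pow_le_pow_left' (by rw [lin_succ hk']; exact le_sup_left) d
      have hgh : g - h' ∈ rel a := ihd (g - h') (sub_mem hg (hle hh')) (by rw [map_sub, hv, sub_self])
      have hrest : f' + C (a ⟨k, hk'⟩) * H ∈ rel a := by
        refine ih (by omega) (d + 1) _ (add_mem hf' ?_) ?_
        · rw [← smul_eq_C_mul]
          exact Submodule.smul_mem _ _ hH
        · have e1 : aeval a (X ⟨k, hk'⟩ * h' - C (a ⟨k, hk'⟩) * H) = 0 := by
            refine RingHom.mem_ker.mp ((show rel a ≤ RingHom.ker (aeval a) from ?_) hrel)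
            rw [rel, Ideal.span_le]
            rintro q ⟨i, j, rfl⟩
            simp only [SetLike.mem_coe, RingHom.mem_ker, map_sub, map_mul, aeval_C, aeval_X,
              Algebra.algebraMap_self, RingHom.id_apply]
            ring
          simp only [map_sub, map_mul, map_add, aeval_X, aeval_C, Algebra.algebraMap_self,
            RingHom.id_apply] at e1 h0 ⊢
          rw [← hv] at h0
          linear_combination h0 - e1
      convert (rel a).add_mem hrest ((rel a).add_mem ((rel a).mul_mem_left (X ⟨k, hk'⟩) hgh) hrel) using 1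
      ring

lemma homogeneous_eq (d : ℕ) : homogeneousSubmodule (Fin n) A d = lin n ^ d := by
  rw [← homogeneousSubmodule_one_pow, homogeneousSubmodule_one_eq_span_X, lin]
  congr 2
  ext f
  simp only [Set.mem_range, Set.mem_image, Set.mem_setOf_eq]
  exact ⟨fun ⟨i, e⟩ => ⟨i, i.2, e⟩, fun ⟨i, _, e⟩ => ⟨i, e⟩⟩

lemma regular_pre (ha : RingTheory.Sequence.IsWeaklyRegular A (List.ofFn a)) (k : ℕ) (hk : k < n) (x : A)
    (hx : a ⟨k, hk⟩ * x ∈ pre a k) : x ∈ pre a k := by
  have h := ha.regular_mod_prev k (by simpa using hk)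
  rw [isSMulRegular_quotient_iff_mem_of_smul_mem] at h
  have hset : (Ideal.ofList ((List.ofFn a).take k) • ⊤ : Submodule A A) = pre a k := by
    rw [smul_eq_mul, Ideal.mul_top, Ideal.ofList, pre]
    congr 1
    ext y
    simp only [Set.mem_setOf_eq, List.mem_take_iff_getElem, List.length_ofFn, List.getElem_ofFn,
      Set.mem_image]
    constructor
    · rintro ⟨j, hj, rfl⟩
      exact ⟨⟨j, by omega⟩, by show j < k; omega, rfl⟩
    · rintro ⟨j, hj, rfl⟩
      exact ⟨j, by simp only [lt_min_iff]; exact ⟨hj, j.2⟩, rfl⟩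
  rw [hset] at h
  refine h x ?_
  rw [List.getElem_ofFn, smul_eq_mul]
  exact hx

/-- Homogeneous polynomials vanishing at a weakly regular sequence lie in the relation ideal. -/
theorem mem_rel_of_homogeneous (ha : RingTheory.Sequence.IsWeaklyRegular A (List.ofFn a)) {d : ℕ}
    {f : MvPolynomial (Fin n) A} (hf : f.IsHomogeneous d) (h0 : aeval a f = 0) : f ∈ rel a :=
  mem_rel_of_lin_pow a (regular_pre a ha) n le_rfl d f (by rw [← homogeneous_eq]; exact hf) h0

lemma aeval_mul_X_homogeneous {d : ℕ} {f : MvPolynomial (Fin n) A} (hf : f.IsHomogeneous d) :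
    aeval (fun i : Fin n => Polynomial.C (a i) * Polynomial.X) f = Polynomial.monomial d (aeval a f) := by
  have hf' : f ∈ homogeneousSubmodule (Fin n) A 1 ^ d := by rw [homogeneousSubmodule_one_pow]; exact hf
  rw [homogeneousSubmodule_one_eq_span_X] at hf'
  clear hf
  induction d generalizing f with
  | zero =>
    rw [pow_zero, Submodule.mem_one] at hf'
    obtain ⟨r, rfl⟩ := hf'
    simp
  | succ d ih =>
    rw [pow_succ] at hf'
    refine Submodule.mul_induction_on hf' ?_ ?_
    · intro u hu v hv
      rw [map_mul, ih hu, map_mul]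
      induction hv using Submodule.span_induction with
      | mem x hx =>
        obtain ⟨i, rfl⟩ := hx
        rw [aeval_X, aeval_X, ← Polynomial.C_mul_X_pow_eq_monomial, ← Polynomial.C_mul_X_pow_eq_monomial,
          map_mul, pow_succ]
        ring
      | zero => simp
      | add x y _ _ hx hy => simp only [map_add, mul_add, hx, hy]
      | smul c x _ hx =>
        rw [map_smul, map_smul, mul_smul_comm, hx, mul_smul_comm, map_smul]
    · intro x y hx hy
      simp only [map_add, hx, hy]

/-- The kernel of the map onto the Rees algebra. -/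
theorem ker_toRees (ha : RingTheory.Sequence.IsWeaklyRegular A (List.ofFn a)) :
    RingHom.ker (aeval (R := A) (fun i : Fin n => Polynomial.C (a i) * (Polynomial.X : Polynomial A))) =
      rel a := by
  refine le_antisymm (fun f hf => ?_) ?_
  · rw [← sum_homogeneousComponent f]
    refine Ideal.sum_mem _ fun d hd => mem_rel_of_homogeneous a ha (homogeneousComponent_isHomogeneous d f) ?_
    have h1 : aeval (fun i : Fin n => Polynomial.C (a i) * Polynomial.X) f = 0 := hf
    rw [← sum_homogeneousComponent f, map_sum] at h1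
    have h2 := congrArg (fun p => Polynomial.coeff p d) h1
    simp only [Polynomial.finsetSum_coeff, Polynomial.coeff_zero,
      fun e => aeval_mul_X_homogeneous a (homogeneousComponent_isHomogeneous e f), Polynomial.coeff_monomial] at h2
    rw [Finset.sum_ite_eq', if_pos hd] at h2
    exact h2
  · rw [rel, Ideal.span_le]
    rintro q ⟨i, j, rfl⟩
    simp only [SetLike.mem_coe, RingHom.mem_ker, map_sub, map_mul, aeval_C, aeval_X, Polynomial.algebraMap_eq]
    ring

/-- Weakly regular sequences are quasi-regular. -/
theorem quasiRegular (ha : RingTheory.Sequence.IsWeaklyRegular A (List.ofFn a)) {d : ℕ}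
    {P : MvPolynomial (Fin n) A} (hP : P.IsHomogeneous d)
    (h : eval a P ∈ Ideal.span (Set.range a) ^ (d + 1)) (e : Fin n →₀ ℕ) :
    P.coeff e ∈ Ideal.span (Set.range a) := by
  set J := Ideal.span (Set.range a)
  have hpre : pre a n = J := by
    rw [pre]
    congr 1
    ext y
    simp only [Set.mem_image, Set.mem_setOf_eq, Set.mem_range]
    exact ⟨fun ⟨i, _, e⟩ => ⟨i, e⟩, fun ⟨i, e⟩ => ⟨i, i.2, e⟩⟩
  obtain ⟨Q, hQ, hQJ, hQv⟩ : ∃ Q : MvPolynomial (Fin n) A, Q.IsHomogeneous d ∧ (∀ e, Q.coeff e ∈ J) ∧
      aeval a Q = eval a P := by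
    rw [pow_succ] at h
    refine Submodule.mul_induction_on h ?_ ?_
    · intro u hu v hv
      rw [← hpre, ← map_lin_pow, ← homogeneous_eq] at hu
      obtain ⟨h0, hh0, rfl⟩ := hu
      refine ⟨C v * h0, IsHomogeneous.C_mul hh0 v, fun e => ?_, ?_⟩
      · rw [coeff_C_mul]
        exact J.mul_mem_right _ hv
      · simp [mul_comm]
    · rintro x y ⟨Q1, h1, c1, v1⟩ ⟨Q2, h2, c2, v2⟩
      exact ⟨Q1 + Q2, h1.add h2, fun e => by rw [coeff_add]; exact J.add_mem (c1 e) (c2 e),
        by rw [map_add, v1, v2]⟩
  have hrel := mem_rel_of_homogeneous a ha (hP.sub hQ) (by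
    rw [map_sub, hQv]
    exact sub_eq_zero.mpr rfl)
  have hle : rel a ≤ Ideal.map C J := by
    rw [rel, Ideal.span_le]
    rintro q ⟨i, j, rfl⟩
    exact sub_mem (Ideal.mul_mem_right _ _ (Ideal.mem_map_of_mem _ (Ideal.subset_span ⟨i, rfl⟩)))
      (Ideal.mul_mem_right _ _ (Ideal.mem_map_of_mem _ (Ideal.subset_span ⟨j, rfl⟩)))
  have := mem_map_C_iff.mp (hle hrel) e
  rw [coeff_sub] at this
  simpa using J.add_mem this (hQJ e)

end Groth.Agent.LinType

namespace Groth.Agent.LinType

open MvPolynomial

/-- The kernel of the map onto the affine blow-up algebra. -/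
theorem ker_toAffineBlowup {A : Type*} [CommRing A] {n : ℕ} (a : Fin (n + 1) → A)
    (ha : RingTheory.Sequence.IsWeaklyRegular A (List.ofFn a)) :
    RingHom.ker (MvPolynomial.aeval (R := A) (S₁ := Localization.Away (a 0))
      (fun i : Fin n => IsLocalization.mk' (Localization.Away (a 0)) (a i.succ)
        (⟨a 0, Submonoid.mem_powers (a 0)⟩ : Submonoid.powers (a 0)))) =
      Ideal.span (Set.range fun i : Fin n =>
        MvPolynomial.C (a 0) * MvPolynomial.X i - MvPolynomial.C (a i.succ)) := by
  set L := Localization.Away (a 0)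
  set t : Fin n → L := fun i => IsLocalization.mk' L (a i.succ)
    (⟨a 0, Submonoid.mem_powers (a 0)⟩ : Submonoid.powers (a 0))
  have ht : ∀ i, algebraMap A L (a 0) * t i = algebraMap A L (a i.succ) := fun i =>
    IsLocalization.mk'_spec' L (a i.succ) _
  refine le_antisymm (fun f hf => ?_) ?_
  · let d := f.totalDegree
    let F : MvPolynomial (Fin (n + 1)) A :=
      ∑ e ∈ f.support, monomial (Finsupp.cons (d - e.degree) e) (f.coeff e)
    have hdeg : ∀ e ∈ f.support, (Finsupp.cons (d - e.degree) e).degree = d := by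
      intro e he
      have hle : e.degree ≤ d := le_totalDegree he
      rw [Finsupp.degree_eq_sum] at hle
      rw [Finsupp.degree_eq_sum, Finsupp.degree_eq_sum, Fin.sum_univ_succ]
      simp only [Finsupp.cons_zero, Finsupp.cons_succ]
      omega
    have hF : F.IsHomogeneous d := by
      refine IsHomogeneous.sum _ _ _ fun e he => isHomogeneous_monomial _ (hdeg e he)
    let π : MvPolynomial (Fin (n + 1)) A →ₐ[A] MvPolynomial (Fin n) A := aeval (Fin.cases 1 X)
    have hπF : π F = f := by
      conv_rhs => rw [f.as_sum]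
      rw [map_sum]
      refine Finset.sum_congr rfl fun e _ => ?_
      rw [aeval_monomial, Finsupp.prod_fintype _ _ (by simp), Fin.prod_univ_succ, monomial_eq,
        Finsupp.prod_fintype _ _ (by simp)]
      simp
    have hF0 : aeval a F = 0 := by
      have h1 : algebraMap A L (aeval a F) = algebraMap A L (a 0) ^ d * aeval t f := by
        conv_rhs => rw [f.as_sum, map_sum, Finset.mul_sum]
        rw [map_sum, map_sum]
        refine Finset.sum_congr rfl fun e he => ?_
        rw [aeval_monomial, aeval_monomial, Finsupp.prod_fintype _ _ (by simp), Fin.prod_univ_succ,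
          Finsupp.prod_fintype _ _ (by simp)]
        simp only [Finsupp.cons_zero, Finsupp.cons_succ, map_mul, map_pow, map_prod, Algebra.algebraMap_self,
          RingHom.id_apply, ← ht, mul_pow, Finset.prod_mul_distrib, Finset.prod_pow_eq_pow_sum]
        have hle : e.degree ≤ d := le_totalDegree he
        rw [Finsupp.degree_eq_sum] at hle ⊢
        rw [show algebraMap A L (a 0) ^ d =
          algebraMap A L (a 0) ^ (d - ∑ i, e i) * algebraMap A L (a 0) ^ (∑ i, e i) by
            rw [← pow_add, Nat.sub_add_cancel hle]]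
        ring
      rw [show aeval t f = 0 from hf, mul_zero] at h1
      obtain ⟨⟨_, N, rfl⟩, hN⟩ := (IsLocalization.map_eq_zero_iff (Submonoid.powers (a 0)) L _).mp h1
      have h0 : IsSMulRegular A (a 0) := by
        rw [List.ofFn_succ, RingTheory.Sequence.isWeaklyRegular_cons_iff] at ha
        exact ha.1
      exact (h0.pow N) (by simpa using hN)
    have hmem := mem_rel_of_homogeneous a ha hF hF0
    rw [← hπF]
    have hle : rel a ≤ (Ideal.span (Set.range fun i : Fin n => C (a 0) * X i - C (a i.succ))).comap π := by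
      rw [rel, Ideal.span_le]
      rintro q ⟨i, j, rfl⟩
      simp only [SetLike.mem_coe, Ideal.mem_comap]
      set I := Ideal.span (Set.range fun i : Fin n => C (a 0) * X i - C (a i.succ))
      have hu : ∀ i : Fin n, C (a 0) * X i - C (a i.succ) ∈ I := fun i => Ideal.subset_span ⟨i, rfl⟩
      simp only [π, map_sub, map_mul, aeval_C, aeval_X, MvPolynomial.algebraMap_eq]
      induction i using Fin.cases with
      | zero =>
        induction j using Fin.cases with
        | zero => simp
        | succ j => simpa using hu j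
      | succ i =>
        induction j using Fin.cases with
        | zero =>
          convert I.neg_mem (hu i) using 1
          simp
        | succ j =>
          convert sub_mem (I.mul_mem_left (X i) (hu j)) (I.mul_mem_left (X j) (hu i)) using 1
          simp
          ring
    exact hle hmem
  · rw [Ideal.span_le]
    rintro q ⟨i, rfl⟩
    simp only [SetLike.mem_coe, RingHom.mem_ker, map_sub, map_mul, aeval_C, aeval_X]
    rw [ht, sub_self]

end Groth.Agent.LinType
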