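import Mathlib
import Groth.Prelude.Def_CAlgX
import Groth.Agent.LinType.Basic

/-!
Quasi-regular sequences: independence of the generators, and regularity in the Jacobson radical.
-/

open MvPolynomial

namespace Groth.Agent.LinType

universe u

variable {A : Type u} [CommRing A] {n : ℕ}

lemma span_range_eq_pre (f : Fin n → A) : Ideal.span (Set.range f) = pre f n := by
  rw [pre]
  congr 1
  ext y
  simp only [Set.mem_image, Set.mem_range]
  exact ⟨fun ⟨i, e⟩ => ⟨i, i.2, e⟩, fun ⟨i, _, e⟩ => ⟨i, e⟩⟩

lemma exists_homogeneous_of_mem_pow (f : Fin n → A) {d : ℕ} {x : A}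
    (hx : x ∈ Ideal.span (Set.range f) ^ d) : ∃ P : MvPolynomial (Fin n) A, P.IsHomogeneous d ∧ eval f P = x := by
  rw [span_range_eq_pre, ← map_lin_pow, ← homogeneous_eq] at hx
  obtain ⟨P, hP, rfl⟩ := hx
  exact ⟨P, hP, by simp [aeval_eq_eval]⟩

lemma eval_mem_pow (f : Fin n → A) {d : ℕ} {P : MvPolynomial (Fin n) A} (hP : P.IsHomogeneous d) :
    eval f P ∈ Ideal.span (Set.range f) ^ d := by
  rw [span_range_eq_pre, ← map_lin_pow, ← homogeneous_eq]
  exact ⟨P, hP, by simp [aeval_eq_eval]⟩

lemma aeval_mem_map_C {m : ℕ} (g : Fin n → MvPolynomial (Fin m) A) {J : Ideal A} {P : MvPolynomial (Fin n) A}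
    (hP : P ∈ Ideal.map C J) : aeval g P ∈ Ideal.map C J := by
  have hle : Ideal.map C J ≤ (Ideal.map C J).comap (aeval g) := by
    refine Ideal.map_le_iff_le_comap.mpr fun x hx => ?_
    simp only [Ideal.mem_comap, aeval_C, MvPolynomial.algebraMap_eq]
    exact Ideal.mem_map_of_mem _ hx
  exact hle hP

/-- Quasi-regularity depends only on the ideal, for a fixed number of generators. -/
theorem isQuasiRegular_of_span_eq (f f' : Fin n → A) (hf : CAlgX.IsQuasiRegular f)
    (h : Ideal.span (Set.range f') = Ideal.span (Set.range f)) : CAlgX.IsQuasiRegular f' := by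
  classical
  set J := Ideal.span (Set.range f) with hJ
  have hM : ∀ i, ∃ c : Fin n → A, ∑ j, c j * f j = f' i := fun i =>
    Ideal.mem_span_range_iff_exists_fun.mp (show f' i ∈ J by rw [← h]; exact Ideal.subset_span ⟨i, rfl⟩)
  have hN : ∀ i, ∃ c : Fin n → A, ∑ j, c j * f' j = f i := fun i =>
    Ideal.mem_span_range_iff_exists_fun.mp (show f i ∈ Ideal.span (Set.range f') by
      rw [h]; exact Ideal.subset_span ⟨i, rfl⟩)
  choose M hM using hM
  choose N hN using hN
  let MM : Matrix (Fin n) (Fin n) A := Matrix.of M
  let NN : Matrix (Fin n) (Fin n) A := Matrix.of N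
  have hNM : ∀ i l, (NN * MM) i l - (1 : Matrix (Fin n) (Fin n) A) i l ∈ J := by
    intro i l
    let P : MvPolynomial (Fin n) A := ∑ j, C ((NN * MM) i j - (1 : Matrix (Fin n) (Fin n) A) i j) * X j
    have hP : P.IsHomogeneous 1 := IsHomogeneous.sum _ _ _ fun j _ => (isHomogeneous_X A j).C_mul _
    have hev : eval f P = 0 := by
      simp only [P, map_sum, map_mul, eval_C, eval_X, sub_mul, Finset.sum_sub_distrib, Matrix.mul_apply,
        Finset.sum_mul, Matrix.one_apply, ite_mul, one_mul, zero_mul, Finset.sum_ite_eq, Finset.mem_univ, if_true]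
      rw [Finset.sum_comm, sub_eq_zero]
      refine (Finset.sum_congr rfl fun k _ => ?_).trans (hN i)
      rw [← hM k, Finset.mul_sum]
      simp [MM, NN, mul_assoc]
    have h1 := hf 1 P hP (by rw [hev]; exact zero_mem _) (Finsupp.single l 1)
    simp only [P, coeff_sum, coeff_C_mul, coeff_X', Finsupp.single_left_inj one_ne_zero, mul_ite, mul_one,
      mul_zero, Finset.sum_ite_eq', Finset.mem_univ, if_true] at h1
    exact h1
  have hMN : ∀ i l, (MM * NN) i l - (1 : Matrix (Fin n) (Fin n) A) i l ∈ J := by
    intro i l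
    let q := Ideal.Quotient.mk J
    have e1 : NN.map q * MM.map q = 1 := by
      rw [← Matrix.map_mul, ← Matrix.map_one q (map_zero q) (map_one q)]
      ext a b
      exact Ideal.Quotient.eq.mpr (hNM a b)
    have e2 := mul_eq_one_comm.mp e1
    rw [← Matrix.map_mul, ← Matrix.map_one q (map_zero q) (map_one q)] at e2
    exact Ideal.Quotient.eq.mp (congrFun (congrFun e2 i) l)
  intro d P hP hev e
  rw [h] at hev ⊢
  let φ : MvPolynomial (Fin n) A →ₐ[A] MvPolynomial (Fin n) A := aeval fun i => ∑ j, C (M i j) * X j
  let ψ : MvPolynomial (Fin n) A →ₐ[A] MvPolynomial (Fin n) A := aeval fun i => ∑ j, C (N i j) * X j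
  have hφ : (φ P).IsHomogeneous d := by
    have := hP.aeval (fun i => ∑ j, C (M i j) * X j)
      (fun i => IsHomogeneous.sum _ _ 1 fun j _ => (isHomogeneous_X A j).C_mul _)
    rwa [one_mul] at this
  have hφe : eval f (φ P) = eval f' P := by
    have : ((aeval f).comp φ : MvPolynomial (Fin n) A →ₐ[A] A) = aeval f' := algHom_ext fun i => by
      simp [φ, aeval_eq_eval, hM i]
    simpa [aeval_eq_eval] using AlgHom.congr_fun this P
  have h1 : φ P ∈ Ideal.map C J := mem_map_C_iff.mpr (hf d _ hφ (by rwa [hφe]))
  have h2 : ψ (φ P) ∈ Ideal.map C J := aeval_mem_map_C _ h1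
  have h3 : (Ideal.Quotient.mkₐ A (Ideal.map C J)).comp (ψ.comp φ) = Ideal.Quotient.mkₐ A (Ideal.map C J) := by
    refine algHom_ext fun i => ?_
    show Ideal.Quotient.mk _ (ψ (φ (X i))) = Ideal.Quotient.mk _ (X i)
    rw [Ideal.Quotient.eq]
    have hψφ : ψ (φ (X i)) - X i = ∑ l, C ((MM * NN) i l - (1 : Matrix (Fin n) (Fin n) A) i l) * X l := by
      simp only [φ, ψ, aeval_X, map_sum, map_mul, aeval_C, MvPolynomial.algebraMap_eq, Finset.mul_sum,
        Matrix.mul_apply, Matrix.one_apply, map_sub, sub_mul, Finset.sum_sub_distrib, Finset.sum_mul,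
        apply_ite (⇑(C : A →+* MvPolynomial (Fin n) A)), map_one, map_zero, ite_mul, one_mul, zero_mul,
        Finset.sum_ite_eq, Finset.mem_univ, if_true]
      rw [Finset.sum_comm]
      simp [MM, NN, mul_assoc]
    rw [hψφ]
    exact Ideal.sum_mem _ fun l _ => Ideal.mul_mem_right _ _ (Ideal.mem_map_of_mem _ (hMN i l))
  have h4 : P - ψ (φ P) ∈ Ideal.map C J := Ideal.Quotient.eq.mp (AlgHom.congr_fun h3 P).symm
  exact mem_map_C_iff.mp (by simpa using Ideal.add_mem _ h4 h2) e

/-- A quasi-regular sequence in the Jacobson radical of a Noetherian ring is weakly regular. -/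
theorem isWeaklyRegular_of_isQuasiRegular : ∀ (c : ℕ) (R : Type u) [CommRing R] [IsNoetherianRing R]
    (f : Fin c → R), (∀ i, f i ∈ Ring.jacobson R) → CAlgX.IsQuasiRegular f →
    RingTheory.Sequence.IsWeaklyRegular R (List.ofFn f)
  | 0, R, _, _, f, _, _ => by simp
  | c + 1, R, _, _, f, hf, hq => by
    set J := Ideal.span (Set.range f) with hJ
    have hkey : ∀ (k : ℕ) (y : R), y ∈ J ^ k → f 0 * y ∈ J ^ (k + 2) → y ∈ J ^ (k + 1) := by
      intro k y hy hy'
      obtain ⟨Q, hQ, rfl⟩ := exists_homogeneous_of_mem_pow f hy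
      have hXQ : (X 0 * Q).IsHomogeneous (k + 1) := by
        rw [add_comm k 1]; exact (isHomogeneous_X R 0).mul hQ
      have h1 := hq (k + 1) _ hXQ (by rw [map_mul, eval_X]; exact hy')
      have h2 : Q ∈ Ideal.map C J := mem_map_C_iff.mpr fun e => by
        have := h1 (Finsupp.single 0 1 + e)
        rwa [coeff_X_mul] at this
      rw [pow_succ']
      rw [Q.as_sum, map_sum]
      refine Ideal.sum_mem _ fun e he => ?_
      rw [monomial_eq, map_mul, eval_C]
      refine Ideal.mul_mem_mul (mem_map_C_iff.mp h2 e) ?_
      have hd : e.degree = k := by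
        have := hQ (mem_support_iff.mp he)
        simp only [Finsupp.degree_eq_weight_one] at *
        exact this
      have hm : ((monomial e) (1 : R)).IsHomogeneous k := isHomogeneous_monomial _ hd
      have := eval_mem_pow f hm
      rwa [monomial_eq, map_mul, eval_C, one_mul] at this
    have h0 : IsSMulRegular R (f 0) := by
      refine isSMulRegular_iff_right_eq_zero_of_smul.mpr fun x hx => ?_
      have hall : ∀ k, x ∈ J ^ k := by
        intro k
        induction k with
        | zero => simp
        | succ k ih => exact hkey k x ih (by rw [← smul_eq_mul, hx]; exact zero_mem _)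
      have hb : (⨅ k, J ^ k • ⊤ : Submodule R R) = ⊥ := Ideal.iInf_pow_smul_eq_bot_of_le_jacobson J (by
        rw [hJ, Ideal.span_le]
        rintro _ ⟨i, rfl⟩
        rw [SetLike.mem_coe, Ideal.jacobson_bot]
        exact hf i)
      exact (Submodule.mem_bot R).mp (hb ▸ (Submodule.mem_iInf _).mpr fun k => by
        rw [smul_eq_mul, Ideal.mul_top]; exact hall k)
    let q : R →+* R ⧸ Ideal.span {f 0} := Ideal.Quotient.mk _
    have hJq : J.map q = Ideal.span (Set.range fun i : Fin c => q (f i.succ)) := by
      refine le_antisymm ?_ ?_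
      · rw [hJ, Ideal.map_span, Ideal.span_le]
        rintro _ ⟨_, ⟨i, rfl⟩, rfl⟩
        induction i using Fin.cases with
        | zero =>
          rw [show q (f 0) = 0 from Ideal.Quotient.eq_zero_iff_mem.mpr (Ideal.mem_span_singleton_self _)]
          exact zero_mem _
        | succ i => exact Ideal.subset_span ⟨i, rfl⟩
      · rw [Ideal.span_le]
        rintro _ ⟨i, rfl⟩
        exact Ideal.mem_map_of_mem _ (Ideal.subset_span ⟨i.succ, rfl⟩)
    have hq' : CAlgX.IsQuasiRegular (fun i : Fin c => q (f i.succ)) := by
      intro d P' hP' hev e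
      rw [← hJq] at hev ⊢
      obtain ⟨P₀, hP₀⟩ := MvPolynomial.map_surjective q Ideal.Quotient.mk_surjective P'
      let P := homogeneousComponent d P₀
      have hPd : P.IsHomogeneous d := homogeneousComponent_isHomogeneous d P₀
      have hcoeff : ∀ e, q (P.coeff e) = P'.coeff e := by
        intro e
        rw [coeff_homogeneousComponent]
        split_ifs with hde
        · rw [← hP₀, coeff_map]
        · rw [map_zero]
          by_contra hne
          have := hP' (Ne.symm hne)
          simp only [Finsupp.degree_eq_weight_one] at *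
          exact hde this
      have hPmap : MvPolynomial.map q P = P' := by
        ext e
        rw [coeff_map, hcoeff]
      rw [← Ideal.map_pow, ← hPmap, eval_map] at hev
      rw [show eval₂ q (fun i : Fin c => q (f i.succ)) P = q (eval (fun i => f i.succ) P) from
        (eval₂_comp q (fun i : Fin c => f i.succ) P).symm] at hev
      obtain ⟨j, hj, hjq⟩ := (Ideal.mem_map_iff_of_surjective q Ideal.Quotient.mk_surjective).mp hev
      obtain ⟨y, hy⟩ := Ideal.mem_span_singleton'.mp (Ideal.Quotient.eq.mp hjq.symm)
      rw [← hcoeff]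
      cases d with
      | zero =>
        refine Ideal.mem_map_of_mem _ ?_
        have hC : P = C (P.coeff 0) := by
          ext e
          rw [coeff_C]
          split_ifs with he
          · rw [he]
          · by_contra hne
            have := hPd hne
            exact he ((Finsupp.degree_eq_zero_iff e).mp (by rw [Finsupp.degree_eq_weight_one]; exact this)).symm
        rw [hC, coeff_C]
        split_ifs with he
        · have e1 : P.coeff 0 = y * f 0 + j := by
            rw [hC, eval_C] at hy
            linear_combination -hy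
          rw [e1]
          exact add_mem (Ideal.mul_mem_left _ _ (Ideal.subset_span ⟨0, rfl⟩)) (by simpa using hj)
        · exact zero_mem _
      | succ m =>
        set g := eval (fun i : Fin c => f i.succ) P with hg
        have hgm : g ∈ J ^ (m + 1) := by
          have := eval_mem_pow (fun i : Fin c => f i.succ) hPd
          exact Ideal.pow_right_mono (Ideal.span_mono (by rintro _ ⟨i, rfl⟩; exact ⟨i.succ, rfl⟩)) _ this
        have hym : ∀ k, k ≤ m → y ∈ J ^ k := by
          intro k
          induction k with
          | zero => simp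
          | succ k ih =>
            intro hk
            refine hkey k y (ih (by omega)) ?_
            rw [show f 0 * y = g - j by linear_combination hy]
            exact sub_mem (Ideal.pow_le_pow_right (by omega) hgm) (Ideal.pow_le_pow_right (by omega) hj)
        obtain ⟨Q, hQ, hQy⟩ := exists_homogeneous_of_mem_pow f (hym m le_rfl)
        let R' : MvPolynomial (Fin (c + 1)) R := rename Fin.succ P - X 0 * Q
        have hR : R'.IsHomogeneous (m + 1) := by
          refine hPd.rename_isHomogeneous.sub ?_
          rw [add_comm m 1]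
          exact (isHomogeneous_X R 0).mul hQ
        have h1 := hq (m + 1) R' hR (by
          have : eval f R' = j := by
            simp only [R', map_sub, map_mul, eval_X, eval_rename, hQy]
            show g - f 0 * y = j
            linear_combination -hy
          rw [this]
          exact hj) (e.mapDomain Fin.succ)
        refine Ideal.mem_map_of_mem _ ?_
        rw [coeff_sub, coeff_rename_mapDomain _ (Fin.succ_injective c), coeff_X_mul', if_neg, sub_zero] at h1
        · exact h1
        · rw [Finsupp.mem_support_iff, not_not]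
          refine Finsupp.mapDomain_of_notMem_range _ _ ?_
          rintro ⟨i, hi⟩
          exact Fin.succ_ne_zero i hi
    have hjac : ∀ i : Fin c, q (f i.succ) ∈ Ring.jacobson (R ⧸ Ideal.span {f 0}) := fun i => by
      rw [← Ideal.jacobson_bot, Ideal.mem_jacobson_bot]
      intro z
      obtain ⟨z, rfl⟩ := Ideal.Quotient.mk_surjective z
      have := hf i.succ
      rw [← Ideal.jacobson_bot, Ideal.mem_jacobson_bot] at this
      simpa using (this z).map q
    have hw := isWeaklyRegular_of_isQuasiRegular c (R ⧸ Ideal.span {f 0}) _ hjac hq'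
    rw [List.ofFn_succ, RingTheory.Sequence.isWeaklyRegular_cons_iff]
    refine ⟨h0, ?_⟩
    have hw' : RingTheory.Sequence.IsWeaklyRegular (R ⧸ Ideal.span {f 0}) (List.ofFn fun i : Fin c => f i.succ) := by
      rw [← RingTheory.Sequence.isWeaklyRegular_map_algebraMap_iff (R := R) (S := R ⧸ Ideal.span {f 0}), List.map_ofFn]
      exact hw
    refine (LinearEquiv.isWeaklyRegular_congr (Submodule.quotEquivOfEq _ _ ?_) _).mpr hw'
    ext x
    rw [Submodule.mem_smul_pointwise_iff_exists, Ideal.mem_span_singleton']
    exact ⟨fun ⟨b, _, hb⟩ => ⟨b, by rw [mul_comm]; exact hb⟩, fun ⟨b, hb⟩ => ⟨b, trivial, by rw [smul_eq_mul, mul_comm, hb]⟩⟩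

end Groth.Agent.LinType
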